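import Mathlib

/-!
# Lifting over discrete valuation rings gives retract rationality

A smooth finite type domain over a field has, after inverting an element, the form of an open piece of a
hypersurface in affine space, so its function field is the residue field of a discrete valuation ring with
purely transcendental fraction field.
-/

set_option autoImplicit false
universe u

open Polynomial

noncomputable section

namespace Groth.Agent.RetRat

/-- The kernel of a standard etale presentation of a domain over a polynomial ring is principal. -/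
theorem ker_isPrincipal (k : Type u) [Field k] (n : ℕ) (D : Type u) [CommRing D] [IsDomain D]
    [Algebra k D] [Algebra (MvPolynomial (Fin n) k) D] [IsScalarTower k (MvPolynomial (Fin n) k) D]
    (P : StandardEtalePresentation (MvPolynomial (Fin n) k) D) :
    ∃ π : MvPolynomial (Fin (n + 1)) k, π ≠ 0 ∧
      RingHom.ker (((Polynomial.aeval P.x).restrictScalars k).comp
        (MvPolynomial.finSuccEquiv k n).toAlgHom : MvPolynomial (Fin (n + 1)) k →+* D) = Ideal.span {π} := by
  classical
  let Q := MvPolynomial (Fin (n + 1)) k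
  let e := MvPolynomial.finSuccEquiv k n
  let ψ : Q →ₐ[k] D := ((Polynomial.aeval P.x).restrictScalars k).comp e.toAlgHom
  let I : Ideal Q := RingHom.ker (ψ : Q →+* D)
  show ∃ π : Q, π ≠ 0 ∧ I = Ideal.span {π}
  haveI hI : I.IsPrime := RingHom.ker_isPrime _
  let F : Q := e.symm P.f
  let G : Q := e.symm P.g
  have hψ : ∀ y, ψ y = Polynomial.aeval P.x (e y) := fun _ => rfl
  have hF : F ∈ I := by
    show ψ F = 0
    rw [hψ, AlgEquiv.apply_symm_apply]
    exact P.hasMap.1
  have hF0 : F ≠ 0 := fun h => P.monic_f.ne_zero (by simpa [F] using congrArg e h)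
  have hG : G ∉ I := fun h => by
    have h' : Polynomial.aeval P.x P.g = 0 := by
      have : ψ G = 0 := h
      rwa [hψ, AlgEquiv.apply_symm_apply] at this
    exact P.hasMap.2.ne_zero h'
  have hmin : ∀ J : Ideal Q, J.IsPrime → F ∈ J → J ≤ I → I ≤ J := by
    intro J hJ hFJ hJI y hy
    have hy0 : P.equivRing (Polynomial.aeval P.x (e y)) = 0 := by
      rw [← hψ, show ψ y = 0 from hy, map_zero]
    have hy1 : algebraMap (AdjoinRoot P.f) (Localization.Away (AdjoinRoot.mk P.f P.g))
        (AdjoinRoot.mk P.f (e y)) = 0 := by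
      have h := congrArg P.P.equivAwayAdjoinRoot hy0
      rw [map_zero] at h
      simpa [← aeval_algHom_apply, StandardEtalePair.equivAwayAdjoinRoot, ← aeval_def,
        Polynomial.aeval_algebraMap_apply, AdjoinRoot.aeval_eq] using h
    obtain ⟨⟨_, m, rfl⟩, hm⟩ := (IsLocalization.map_eq_zero_iff
      (Submonoid.powers (AdjoinRoot.mk P.f P.g)) _ _).1 hy1
    have hm' : AdjoinRoot.mk P.f (P.g ^ m * e y) = 0 := by rw [map_mul, map_pow]; exact hm
    obtain ⟨c, hc⟩ := AdjoinRoot.mk_eq_zero.1 hm'
    have h2 : G ^ m * y ∈ J := by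
      have : G ^ m * y = F * e.symm c := e.injective (by
        rw [map_mul, map_mul, map_pow, AlgEquiv.apply_symm_apply, AlgEquiv.apply_symm_apply,
          AlgEquiv.apply_symm_apply]
        exact hc)
      rw [this]
      exact J.mul_mem_right _ hFJ
    exact (hJ.mem_or_mem h2).resolve_left fun h => hG (hJI (hJ.mem_of_pow_mem m h))
  obtain ⟨π, hπI, hπF⟩ : ∃ π : Q, Prime π ∧ π ∣ F ∧ π ∈ I := by
    have hFu : ¬IsUnit F := fun h => hI.ne_top (Ideal.eq_top_of_isUnit_mem _ hF h)
    obtain ⟨l, hl, u, hu⟩ := UniqueFactorizationMonoid.exists_prime_factors F hF0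
    have hp : l.prod ∈ I := (Ideal.mul_unit_mem_iff_mem I u.isUnit).1 (by rw [hu]; exact hF)
    obtain ⟨π, hπ, hπm⟩ := (Ideal.IsPrime.multiset_prod_mem_iff_exists_mem hI _).1 hp
    exact ⟨π, hl π hπ, (Multiset.dvd_prod hπ).trans ⟨↑u, hu.symm⟩, hπm⟩
  refine ⟨π, hπI.ne_zero, le_antisymm (hmin _ ((Ideal.span_singleton_prime hπI.ne_zero).2 hπI)
    (Ideal.mem_span_singleton.2 hπF.1) ((Ideal.span_singleton_le_iff_mem _).2 hπF.2))
    ((Ideal.span_singleton_le_iff_mem _).2 hπF.2)⟩

/-- Lifting residual points over discrete valuation rings gives a retraction through affine space. -/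
theorem exists_retract (k : Type u) [Field k] (R : Type u) [CommRing R] [IsDomain R] [Algebra k R]
    [Algebra.Smooth k R]
    (hlift : ∀ (A : Type u) [CommRing A] [IsDomain A] [IsDiscreteValuationRing A] [Algebra k A]
      (v : R →+* IsLocalRing.ResidueField A),
      v.comp (algebraMap k R) = (IsLocalRing.residue A).comp (algebraMap k A) →
      ∃ σ : R →+* A, σ.comp (algebraMap k R) = algebraMap k A ∧ (IsLocalRing.residue A).comp σ = v) :
    ∃ (g : R) (N : ℕ) (f : MvPolynomial (Fin N) k)
      (a : Localization.Away f →+* Localization.Away g) (b : Localization.Away g →+* Localization.Away f),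
      g ≠ 0 ∧ a.comp b = RingHom.id _ ∧
      a.comp (algebraMap k (Localization.Away f)) = algebraMap k (Localization.Away g) ∧
      b.comp (algebraMap k (Localization.Away g)) = algebraMap k (Localization.Away f) := by
  classical
  haveI : Algebra.FinitePresentation k R := inferInstance
  haveI : Algebra.IsSmoothAt k (⊥ : Ideal R) := inferInstance
  obtain ⟨g0, hg0, n, _, _, hse⟩ := Algebra.IsSmoothAt.exists_isStandardEtale_mvPolynomial (R := k) (p := (⊥ : Ideal R))
  have hg0' : g0 ≠ 0 := by simpa using hg0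
  let K := FractionRing R
  let D := Localization.Away g0
  haveI : IsDomain D := IsLocalization.isDomain_localization (powers_le_nonZeroDivisors_of_noZeroDivisors hg0')
  let ρ : D →+* K := IsLocalization.Away.lift g0 (g := algebraMap R K)
    (isUnit_iff_ne_zero.2 fun h => hg0' (IsFractionRing.injective R K (h.trans (map_zero _).symm)))
  have hρ : ∀ r, ρ (algebraMap R D r) = algebraMap R K r := fun r => IsLocalization.Away.lift_eq g0 _ r
  let P : StandardEtalePresentation (MvPolynomial (Fin n) k) D := hse.nonempty_standardEtalePresentation.some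
  obtain ⟨π, hπ0, hker⟩ := ker_isPrincipal k n D P
  let Q := MvPolynomial (Fin (n + 1)) k
  let ψ : Q →ₐ[k] D := ((Polynomial.aeval P.x).restrictScalars k).comp (MvPolynomial.finSuccEquiv k n).toAlgHom
  let I : Ideal Q := RingHom.ker (ψ : Q →+* D)
  have hI : I = Ideal.span {π} := hker
  haveI : I.IsPrime := RingHom.ker_isPrime _
  let G : Q := (MvPolynomial.finSuccEquiv k n).symm P.g
  have hψG : ψ G = Polynomial.aeval P.x P.g := by
    show Polynomial.aeval P.x (MvPolynomial.finSuccEquiv k n ((MvPolynomial.finSuccEquiv k n).symm P.g)) = _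
    rw [AlgEquiv.apply_symm_apply]
  have hsurj : ∀ d : D, ∃ (y : Q) (m : ℕ), d * ψ G ^ m = ψ y := by
    intro d
    obtain ⟨p, m, hp⟩ := P.exists_mul_aeval_x_g_pow_eq_aeval_x d
    refine ⟨(MvPolynomial.finSuccEquiv k n).symm p, m, ?_⟩
    rw [hψG, hp]
    show _ = Polynomial.aeval P.x (MvPolynomial.finSuccEquiv k n ((MvPolynomial.finSuccEquiv k n).symm p))
    rw [AlgEquiv.apply_symm_apply]
  have hψG0 : ψ G ≠ 0 := hψG ▸ P.hasMap.2.ne_zero
  have hρinj : Function.Injective ρ := by
    rw [injective_iff_map_eq_zero]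
    intro d hd
    obtain ⟨⟨r, s⟩, hrs⟩ := IsLocalization.surj (Submonoid.powers g0) d
    have h : algebraMap R K r = 0 := by rw [← hρ, ← hrs, map_mul, hd, zero_mul]
    have hr : r = 0 := IsFractionRing.injective R K (h.trans (map_zero _).symm)
    rw [hr, map_zero] at hrs
    exact (mul_eq_zero.1 hrs).resolve_right fun h0 =>
      (IsLocalization.map_units D s).ne_zero h0
  -- the discrete valuation ring
  let A := Localization.AtPrime I
  haveI : IsNoetherianRing A := IsLocalization.isNoetherianRing I.primeCompl A inferInstance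
  haveI : IsDomain A := IsLocalization.isDomain_localization I.primeCompl_le_nonZeroDivisors
  have hprinc : (IsLocalRing.maximalIdeal A).IsPrincipal := by
    rw [← Localization.AtPrime.map_eq_maximalIdeal]
    exact ⟨⟨algebraMap Q A π, by rw [congrArg (Ideal.map (algebraMap Q A)) hI, Ideal.map_span, Set.image_singleton]⟩⟩
  have hnf : ¬IsField A := by
    intro hA
    have h := IsLocalRing.isField_iff_maximalIdeal_eq.1 hA
    rw [← Localization.AtPrime.map_eq_maximalIdeal, Ideal.map_eq_bot_iff_of_injective
      (IsLocalization.injective A I.primeCompl_le_nonZeroDivisors), hI, Ideal.span_singleton_eq_bot] at h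
    exact hπ0 h
  haveI : IsDiscreteValuationRing A := ((IsDiscreteValuationRing.TFAE A hnf).out 4 0).1 hprinc
  let ψK : Q →+* K := ρ.comp (ψ : Q →+* D)
  have hψK : ∀ y, ψK y = ρ (ψ y) := fun _ => rfl
  have hψK0 : ∀ y, ψK y = 0 ↔ y ∈ I := fun y => by
    rw [hψK, map_eq_zero_iff ρ hρinj]; rfl
  let αK : A →+* K := IsLocalization.lift (M := I.primeCompl) (g := ψK) fun y =>
    isUnit_iff_ne_zero.2 fun h => y.2 ((hψK0 _).1 h)
  have hαK : ∀ y, αK (algebraMap Q A y) = ψK y := fun y => IsLocalization.lift_eq _ y
  have hαker : ∀ z ∈ IsLocalRing.maximalIdeal A, αK z = 0 := by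
    intro z hz
    rw [← Localization.AtPrime.map_eq_maximalIdeal] at hz
    refine (RingHom.mem_ker).1 ((Ideal.map_le_iff_le_comap.2 fun y hy => ?_) hz)
    exact (hαK y).trans ((hψK0 y).2 hy)
  let ι : IsLocalRing.ResidueField A →+* K :=
    Ideal.Quotient.lift (IsLocalRing.maximalIdeal A) αK hαker
  have hι : ∀ z, ι (IsLocalRing.residue A z) = αK z := fun _ => rfl
  have hιsurj : ∀ r : R, ∃ c, ι c = algebraMap R K r := by
    intro r
    obtain ⟨y, m, hy⟩ := hsurj (algebraMap R D r)
    refine ⟨IsLocalRing.residue A (algebraMap Q A y) / IsLocalRing.residue A (algebraMap Q A (G ^ m)), ?_⟩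
    rw [map_div₀, hι, hι, hαK, hαK, hψK, hψK, map_pow, map_pow, ← hy, map_mul, map_pow, hρ,
      mul_div_cancel_right₀ _ (pow_ne_zero m fun h => hψG0 (hρinj (h.trans (map_zero _).symm)))]
  choose v0 hv0 using hιsurj
  let v : R →+* IsLocalRing.ResidueField A :=
    { toFun := v0
      map_one' := ι.injective (by simp [hv0])
      map_mul' := fun x y => ι.injective (by simp [hv0])
      map_zero' := ι.injective (by simp [hv0])
      map_add' := fun x y => ι.injective (by simp [hv0]) }
  obtain ⟨σ, hσk, hσ⟩ := hlift A v (by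
    refine RingHom.ext fun c => ι.injective ?_
    show ι (v0 (algebraMap k R c)) = ι (IsLocalRing.residue A (algebraMap k A c))
    rw [hv0, hι, IsScalarTower.algebraMap_apply k Q A, hαK, hψK, AlgHom.commutes,
      IsScalarTower.algebraMap_apply k R D, hρ])
  have hσK : ∀ r, αK (σ r) = algebraMap R K r := fun r => by
    rw [← hι]
    exact (congrArg ι (RingHom.congr_fun hσ r)).trans (hv0 r)
  -- spreading out
  let σA : R →ₐ[k] A := ⟨σ, fun c => RingHom.congr_fun hσk c⟩
  obtain ⟨S, hS⟩ := (inferInstance : Algebra.FiniteType k R).out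
  obtain ⟨⟨f, hf⟩, hfS⟩ := IsLocalization.exist_integer_multiples_of_finset I.primeCompl (S.image σA)
  have hf0 : f ≠ 0 := fun h => hf (h ▸ I.zero_mem)
  let Qf := Localization.Away f
  have hfA : IsUnit (algebraMap Q A f) := IsLocalization.map_units A (⟨f, hf⟩ : I.primeCompl)
  let j : Qf →ₐ[Q] A := IsLocalization.Away.liftAlgHom f (f := Algebra.ofId Q A) hfA
  have hjinj : Function.Injective j := by
    rw [injective_iff_map_eq_zero]
    intro z hz
    obtain ⟨⟨y, s⟩, hys⟩ := IsLocalization.surj (Submonoid.powers f) z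
    have h : algebraMap Q A y = 0 := by rw [← j.commutes, ← hys, map_mul, hz, zero_mul]
    rw [IsLocalization.injective A I.primeCompl_le_nonZeroDivisors (h.trans (map_zero _).symm),
      map_zero] at hys
    exact (IsLocalization.map_units Qf s).mul_left_eq_zero.1 hys
  let jk : Qf →ₐ[k] A := j.restrictScalars k
  have hrange : ∀ r, σA r ∈ jk.range := by
    have : ⊤ ≤ jk.range.comap σA := by
      rw [← hS]
      refine Algebra.adjoin_le fun r hr => ?_
      obtain ⟨y, hy⟩ := hfS (σA r) (Finset.mem_image_of_mem _ hr)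
      have hfu : IsUnit (algebraMap Q Qf f) := IsLocalization.Away.algebraMap_isUnit f
      refine ⟨algebraMap Q Qf y * ↑hfu.unit⁻¹, hfA.mul_left_cancel ?_⟩
      show algebraMap Q A f * j (algebraMap Q Qf y * ↑hfu.unit⁻¹) = algebraMap Q A f * σA r
      rw [← j.commutes f, ← map_mul, mul_left_comm, hfu.mul_val_inv, mul_one, j.commutes, hy,
        Algebra.smul_def, j.commutes]
    exact fun r => this (Algebra.mem_top : r ∈ (⊤ : Subalgebra k R))
  choose σ0 hσ0 using hrange
  obtain ⟨⟨r, ⟨_, m0, rfl⟩⟩, hr⟩ := IsLocalization.surj (Submonoid.powers g0) (ψ f)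
  have hr0 : r ≠ 0 := by
    intro h
    rw [h, map_zero] at hr
    exact (mul_ne_zero (fun h0 => hf (show ψ f = 0 from h0))
      (IsLocalization.map_units D (⟨g0 ^ m0, m0, rfl⟩ : Submonoid.powers g0)).ne_zero) hr
  let g : R := g0 * r
  have hg : g ≠ 0 := mul_ne_zero hg0' hr0
  obtain ⟨⟨p, ⟨_, m, rfl⟩⟩, hp⟩ := IsLocalization.surj (Submonoid.powers f) (σ0 g)
  have hpA : algebraMap Q A p = σ g * algebraMap Q A (f ^ m) := by
    rw [← j.commutes, ← hp, map_mul, j.commutes]
    congr 1
    exact hσ0 g
  let E := Localization.Away g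
  let f' : Q := f * p
  have hgE : IsUnit (algebraMap R E g) := IsLocalization.Away.algebraMap_isUnit g
  let D2E : D →+* E := IsLocalization.Away.lift g0 (g := algebraMap R E)
    (isUnit_of_mul_isUnit_left (y := algebraMap R E r) (by rw [← map_mul]; exact hgE))
  have hD2E : ∀ x, D2E (algebraMap R D x) = algebraMap R E x := fun x => IsLocalization.Away.lift_eq g0 _ x
  let ιE : E →+* K := IsLocalization.Away.lift g (g := algebraMap R K)
    (isUnit_iff_ne_zero.2 fun h => hg (IsFractionRing.injective R K (h.trans (map_zero _).symm)))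
  have hιE : ∀ x, ιE (algebraMap R E x) = algebraMap R K x := fun x => IsLocalization.Away.lift_eq g _ x
  have hιEinj : Function.Injective ιE := by
    rw [injective_iff_map_eq_zero]
    intro z hz
    obtain ⟨⟨y, s⟩, hys⟩ := IsLocalization.surj (Submonoid.powers g) z
    have h : algebraMap R K y = 0 := by rw [← hιE, ← hys, map_mul, hz, zero_mul]
    rw [IsFractionRing.injective R K (h.trans (map_zero _).symm), map_zero] at hys
    exact (IsLocalization.map_units E s).mul_left_eq_zero.1 hys
  have hιED : ιE.comp D2E = ρ := IsLocalization.ringHom_ext (Submonoid.powers g0)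
    (RingHom.ext fun x => by
      show ιE (D2E (algebraMap R D x)) = ρ (algebraMap R D x)
      rw [hD2E, hιE, hρ])
  let ψE : Q →+* E := D2E.comp (ψ : Q →+* D)
  have hψE : ∀ y, ιE (ψE y) = ψK y := fun y => RingHom.congr_fun hιED (ψ y)
  have hfE : IsUnit (ψE f) := by
    have h : ψE f * algebraMap R E (g0 ^ m0) = algebraMap R E r := by
      rw [← hD2E r, ← hD2E (g0 ^ m0)]
      show D2E (ψ f) * _ = _
      rw [← map_mul, hr]
    exact isUnit_of_mul_isUnit_left (y := algebraMap R E (g0 ^ m0)) (by
      rw [h]; exact isUnit_of_mul_isUnit_right (x := algebraMap R E g0) (by rw [← map_mul]; exact hgE))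
  have hpE : IsUnit (ψE p) := by
    have h : ψE p = algebraMap R E g * ψE f ^ m := hιEinj (by
      rw [map_mul, map_pow, hψE, hψE, hιE, ← hαK, hpA, map_mul, hσK, map_pow, map_pow, hαK])
    exact h ▸ hgE.mul (hfE.pow m)
  let a : Localization.Away f' →+* E := IsLocalization.Away.lift f' (g := ψE)
    (by rw [map_mul]; exact hfE.mul hpE)
  have ha : ∀ y, a (algebraMap Q _ y) = ψE y := fun y => IsLocalization.Away.lift_eq f' _ y
  have hf'u : IsUnit (algebraMap Q (Localization.Away f') f * algebraMap Q (Localization.Away f') p) := by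
    rw [← map_mul]; exact IsLocalization.Away.algebraMap_isUnit f'
  let c : Qf →+* Localization.Away f' :=
    IsLocalization.Away.lift f (g := algebraMap Q (Localization.Away f')) (isUnit_of_mul_isUnit_left hf'u)
  have hc : ∀ y, c (algebraMap Q Qf y) = algebraMap Q _ y := fun y => IsLocalization.Away.lift_eq f _ y
  let s0 : R →ₐ[k] Qf :=
    { toFun := σ0
      map_one' := hjinj ((hσ0 1).trans ((map_one σA).trans (map_one j).symm))
      map_mul' := fun x y => hjinj ((hσ0 (x * y)).trans (by rw [map_mul, map_mul, ← hσ0, ← hσ0]; rfl))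
      map_zero' := hjinj ((hσ0 0).trans ((map_zero σA).trans (map_zero j).symm))
      map_add' := fun x y => hjinj ((hσ0 (x + y)).trans (by rw [map_add, map_add, ← hσ0, ← hσ0]; rfl))
      commutes' := fun t => hjinj ((hσ0 _).trans (by
        rw [σA.commutes]; exact (jk.commutes t).symm)) }
  have hgu : IsUnit (c (σ0 g)) := by
    have h : c (σ0 g) * algebraMap Q (Localization.Away f') (f ^ m) = algebraMap Q _ p := by
      rw [← hc (f ^ m), ← hc p, ← map_mul, hp]
    exact isUnit_of_mul_isUnit_left (h ▸ isUnit_of_mul_isUnit_right hf'u)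
  let b : E →+* Localization.Away f' := IsLocalization.Away.lift g (g := c.comp (s0 : R →+* Qf)) hgu
  have hb : ∀ x, b (algebraMap R E x) = c (σ0 x) := fun x => IsLocalization.Away.lift_eq g _ x
  have hac : (ιE.comp a).comp c = αK.comp (j : Qf →+* A) := IsLocalization.ringHom_ext (Submonoid.powers f)
    (RingHom.ext fun y => by
      show ιE (a (c (algebraMap Q Qf y))) = αK (j (algebraMap Q Qf y))
      rw [hc, ha, hψE, j.commutes, hαK])
  refine ⟨g, n + 1, f', a, b, hg, ?_, ?_, ?_⟩
  · refine IsLocalization.ringHom_ext (Submonoid.powers g) (RingHom.ext fun x => hιEinj ?_)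
    show ιE (a (b (algebraMap R E x))) = ιE (algebraMap R E x)
    rw [hb, hιE]
    exact (RingHom.congr_fun hac (σ0 x)).trans ((congrArg αK (hσ0 x)).trans (hσK x))
  · refine RingHom.ext fun t => ?_
    show a (algebraMap k _ t) = algebraMap k E t
    rw [IsScalarTower.algebraMap_apply k Q (Localization.Away f'), ha, IsScalarTower.algebraMap_apply k R E]
    show D2E (ψ (algebraMap k Q t)) = _
    rw [ψ.commutes, IsScalarTower.algebraMap_apply k R D, hD2E]
  · refine RingHom.ext fun t => ?_
    show b (algebraMap k E t) = algebraMap k _ t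
    rw [IsScalarTower.algebraMap_apply k R E, hb, IsScalarTower.algebraMap_apply k Q (Localization.Away f'),
      ← hc, show σ0 (algebraMap k R t) = s0 (algebraMap k R t) from rfl, s0.commutes,
      IsScalarTower.algebraMap_apply k Q Qf]

end Groth.Agent.RetRat
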