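import Groth.Agent.RetRat.Torus
import Groth.Agent.Chev.SADesc
import Mathlib

/-!
# Retract rational tori: rational points over local rings surject onto residual points
-/

set_option autoImplicit false
set_option linter.style.haveILetI false
set_option backward.isDefEq.respectTransparency false
set_option backward.isDefEq.respectTransparency.types false
set_option maxHeartbeats 1000000
universe u

open CategoryTheory Limits AlgebraicGeometry MonObj GrpObj CartesianMonoidalCategory
open scoped TensorProduct CategoryTheory.Obj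

noncomputable section

namespace Groth.Agent.RetRat

variable {k : Type u} [Field k]

/-- The spectrum of an algebra. -/
abbrev sp (k : Type u) [Field k] (A : Type u) [CommRing A] [Algebra k A] : Over (Spec (CommRingCat.of k)) :=
  Over.mk (Spec.map (CommRingCat.ofHom (algebraMap k A)))

/-- The morphism of spectra. -/
def spMap {A B : Type u} [CommRing A] [Algebra k A] [CommRing B] [Algebra k B] (f : A →ₐ[k] B) :
    sp k B ⟶ sp k A :=
  Over.homMk (Spec.map (CommRingCat.ofHom f.toRingHom)) (by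
    dsimp only [sp, Over.mk_hom]
    rw [← Spec.map_comp, ← CommRingCat.ofHom_comp]
    congr 2
    exact f.comp_algebraMap)

theorem spMap_comp {A B C : Type u} [CommRing A] [Algebra k A] [CommRing B] [Algebra k B] [CommRing C] [Algebra k C]
    (f : A →ₐ[k] B) (g : B →ₐ[k] C) : spMap g ≫ spMap f = spMap (g.comp f) := by
  refine Over.OverMorphism.ext ?_
  show Spec.map _ ≫ Spec.map _ = Spec.map _
  rw [← Spec.map_comp]
  rfl

variable {T : Over (Spec (CommRingCat.of k))}

/-- The algebra map underlying a point of an affine scheme. -/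
def pts [IsAffine T.left] {A : Type u} [CommRing A] [Algebra k A] (x : sp k A ⟶ T) :
    Γ(T.left, ⊤) ⟶ CommRingCat.of A :=
  Spec.preimage (x.left ≫ T.left.isoSpec.hom)

theorem map_pts [IsAffine T.left] {A : Type u} [CommRing A] [Algebra k A] (x : sp k A ⟶ T) :
    Spec.map (pts x) ≫ T.left.isoSpec.inv = x.left := by
  rw [pts, Spec.map_preimage, Category.assoc, Iso.hom_inv_id, Category.comp_id]

theorem pts_spMap [IsAffine T.left] {A B : Type u} [CommRing A] [Algebra k A] [CommRing B] [Algebra k B]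
    (f : A →ₐ[k] B) (x : sp k A ⟶ T) : pts (spMap f ≫ x) = pts x ≫ CommRingCat.ofHom f.toRingHom := by
  refine Spec.map_injective ?_
  rw [Spec.map_comp, pts, pts, Spec.map_preimage, Spec.map_preimage]
  exact Category.assoc _ _ _

theorem pts_inj [IsAffine T.left] {A : Type u} [CommRing A] [Algebra k A] {x y : sp k A ⟶ T}
    (h : pts x = pts y) : x = y :=
  Over.OverMorphism.ext (by rw [← map_pts x, ← map_pts y, h])

theorem cancel_spMap [IsAffine T.left] {A B : Type u} [CommRing A] [Algebra k A] [CommRing B] [Algebra k B]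
    (f : A →ₐ[k] B) (hf : Function.Injective f) {x y : sp k A ⟶ T} (h : spMap f ≫ x = spMap f ≫ y) : x = y := by
  refine pts_inj (CommRingCat.hom_ext (RingHom.ext fun r => hf ?_))
  have h' := congrArg (fun t => t.hom r) (congrArg pts h)
  simp only [pts_spMap] at h'
  exact h'

theorem exists_desc [IsAffine T.left] {A B : Type u} [CommRing A] [Algebra k A] [CommRing B] [Algebra k B]
    (f : A →ₐ[k] B) (hf : Function.Injective f) (S : Set (B →ₐ[k] B))
    (hinv : ∀ b, (∀ σ ∈ S, σ b = b) → b ∈ f.range) (x : sp k B ⟶ T) (hx : ∀ σ ∈ S, spMap σ ≫ x = x) :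
    ∃ y : sp k A ⟶ T, spMap f ≫ y = x := by
  have hfix : ∀ r, (pts x).hom r ∈ f.range := fun r => hinv _ fun σ hσ => by
    have h1 := congrArg (fun t => t.hom r) (congrArg pts (hx σ hσ))
    simp only [pts_spMap] at h1
    exact h1
  choose g hg using fun r => (AlgHom.mem_range f).1 (hfix r)
  let a : Γ(T.left, ⊤) →+* A :=
    { toFun := g
      map_one' := hf (by rw [hg, map_one, map_one])
      map_mul' := fun r s => hf (by rw [hg, map_mul, map_mul, hg, hg])
      map_zero' := hf (by rw [hg, map_zero, map_zero])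
      map_add' := fun r s => hf (by rw [hg, map_add, map_add, hg, hg]) }
  have ha : CommRingCat.ofHom a ≫ CommRingCat.ofHom f.toRingHom = pts x :=
    CommRingCat.hom_ext (RingHom.ext fun r => hg r)
  let yl : Spec (CommRingCat.of A) ⟶ T.left := Spec.map (CommRingCat.ofHom a) ≫ T.left.isoSpec.inv
  have hyl : Spec.map (CommRingCat.ofHom f.toRingHom) ≫ yl = x.left := by
    rw [← map_pts x, ← ha, Spec.map_comp, Category.assoc]
  obtain ⟨w, hw⟩ := Spec.map_surjective (yl ≫ T.hom)
  have hw' : yl ≫ T.hom = Spec.map (CommRingCat.ofHom (algebraMap k A)) := by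
    have h1 : Spec.map (CommRingCat.ofHom f.toRingHom) ≫ Spec.map w = Spec.map (CommRingCat.ofHom (algebraMap k B)) := by
      rw [hw, ← Category.assoc, hyl]
      exact Over.w x
    rw [← Spec.map_comp] at h1
    rw [← hw]
    congr 1
    refine CommRingCat.hom_ext (RingHom.ext fun r => hf ?_)
    have h2 := congrArg (fun t => t.hom r) (Spec.map_injective h1)
    exact h2.trans (f.commutes r).symm
  exact ⟨Over.homMk yl hw', Over.OverMorphism.ext hyl⟩

theorem range_le_of_closedPoint {A : Type u} [CommRing A] [IsLocalRing A] {X : Scheme.{u}}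
    (g : Spec (CommRingCat.of A) ⟶ X) (U : X.Opens) (h : g (IsLocalRing.closedPoint A) ∈ U) :
    Set.range g ⊆ (U : Set X) := by
  rintro _ ⟨p, rfl⟩
  exact (IsLocalRing.specializes_closedPoint (R := A) p).map g.continuous |>.mem_open U.2 h

theorem exists_eval_ne_zero {n : ℕ} {R : Type u} [CommRing R] [IsDomain R] (f : MvPolynomial (Fin n) R)
    (hf : f ≠ 0) (hR : Infinite R ∨ f.totalDegree < Nat.card R) :
    ∃ c : Fin n → R, MvPolynomial.eval c f ≠ 0 := by
  by_contra h
  push_neg at h
  refine hf ?_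
  rcases hR with hR | hR
  · exact MvPolynomial.funext fun x => by rw [h x, map_zero]
  · haveI : Finite R := Nat.finite_of_card_ne_zero (by omega)
    letI := Fintype.ofFinite R
    refine MvPolynomial.eq_zero_of_eval_zero_at_prod_finset f (fun _ => Finset.univ) (fun i => ?_) (fun x _ => h x)
    rw [Finset.card_univ, Fintype.card_eq_nat_card]
    exact lt_of_le_of_lt (MvPolynomial.degreeOf_le_totalDegree _ _) hR

theorem exists_surj_map {n : ℕ} {R E : Type u} [Field R] [Field E] [Algebra R E] (f : MvPolynomial (Fin n) R)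
    (hf : f ≠ 0) (hE : Infinite E ∨ f.totalDegree < Nat.card E) :
    ∃ c : Fin n → E, MvPolynomial.aeval c f ≠ 0 := by
  obtain ⟨c, hc⟩ := exists_eval_ne_zero (MvPolynomial.map (algebraMap R E) f)
    (by rwa [Ne, ← map_zero (MvPolynomial.map (algebraMap R E)),
      (MvPolynomial.map_injective _ (algebraMap R E).injective).eq_iff])
    (hE.imp id fun h => lt_of_le_of_lt (Finset.sup_mono (MvPolynomial.support_map_subset (algebraMap R E) f)) h)
  exact ⟨c, by rwa [MvPolynomial.aeval_def, ← MvPolynomial.eval_map]⟩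

section Retract

variable [GrpObj T]

/-- The structure map of an extension field. -/
abbrev qS (k κ : Type u) [Field k] [Field κ] [Algebra k κ] : Spec (CommRingCat.of κ) ⟶ Spec (CommRingCat.of k) :=
  Spec.map (CommRingCat.ofHom (algebraMap k κ))

variable {κ : Type u} [Field κ] [Algebra k κ]

variable (T κ) in
/-- The base change of `T`, over `k`. -/
abbrev bq : Over (Spec (CommRingCat.of k)) := Over.mk (pullback.snd T.hom (qS k κ) ≫ qS k κ)

variable (T κ) in
/-- The first projection. -/
def bF : bq T κ ⟶ T := Over.homMk (pullback.fst T.hom (qS k κ)) pullback.condition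

variable (T κ) in
/-- The second projection. -/
def bS : bq T κ ⟶ sp k κ := Over.homMk (pullback.snd T.hom (qS k κ)) rfl

/-- Translation by a point. -/
def tr (v : sp k κ ⟶ T) : bq T κ ⟶ bq T κ :=
  Over.homMk (pullback.lift (bF T κ * (bS T κ ≫ v)).left (pullback.snd T.hom (qS k κ))
    (Over.w (bF T κ * (bS T κ ≫ v)))) (by
      show pullback.lift _ _ _ ≫ pullback.snd T.hom (qS k κ) ≫ qS k κ = _
      rw [pullback.lift_snd_assoc]
      rfl)

theorem tr_bF (v : sp k κ ⟶ T) : tr v ≫ bF T κ = bF T κ * (bS T κ ≫ v) :=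
  Over.OverMorphism.ext (pullback.lift_fst _ _ _)

theorem tr_bS (v : sp k κ ⟶ T) : tr v ≫ bS T κ = bS T κ :=
  Over.OverMorphism.ext (pullback.lift_snd _ _ _)

theorem bq_ext {W : Over (Spec (CommRingCat.of k))} {x y : W ⟶ bq T κ} (h1 : x ≫ bF T κ = y ≫ bF T κ)
    (h2 : x ≫ bS T κ = y ≫ bS T κ) : x = y :=
  Over.OverMorphism.ext (pullback.hom_ext (congrArg (fun t => t.left) h1) (congrArg (fun t => t.left) h2))

theorem tr_inv (v : sp k κ ⟶ T) : tr v⁻¹ ≫ tr v = 𝟙 (bq T κ) := by
  refine bq_ext ?_ ?_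
  · rw [Category.assoc, tr_bF, MonObj.comp_mul, tr_bF, ← Category.assoc, tr_bS, Category.id_comp,
      _root_.mul_assoc, GrpObj.comp_inv, inv_mul_cancel, _root_.mul_one]
  · rw [Category.assoc, tr_bS, tr_bS, Category.id_comp]

theorem tr_inv_apply (v : sp k κ ⟶ T) (z : (bq T κ).left) : (tr v).left ((tr v⁻¹).left z) = z := by
  rw [← Scheme.Hom.comp_apply]
  exact congrArg (fun t : bq T κ ⟶ bq T κ => t.left z) (tr_inv v)

theorem isIntegral_bq (hT : Red.IsTorus T) : IsIntegral (bq T κ).left := by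
  have h : IsIntegral (Red.bc (qS k κ) T).left := isIntegral_of_isTorus (Chev.isTorus_bc hT (qS k κ))
  exact h

omit [GrpObj T] in
theorem exists_bF_eq (t : T.left) : ∃ z, (bF T κ).left z = t := by
  haveI : Surjective (qS k κ) :=
    ⟨fun _ => ⟨IsLocalRing.closedPoint κ, Subsingleton.elim (α := PrimeSpectrum k) _ _⟩⟩
  haveI : Surjective (pullback.fst T.hom (qS k κ)) := MorphismProperty.pullback_fst _ _ ‹_›
  exact (pullback.fst T.hom (qS k κ)).surjective t

omit [GrpObj T] in
/-- A morphism of spectra over `k` comes from an algebra map. -/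
theorem exists_algHom {A B : Type u} [CommRing A] [Algebra k A] [CommRing B] [Algebra k B] (x : sp k B ⟶ sp k A) :
    ∃ f : A →ₐ[k] B, x = spMap f := by
  obtain ⟨i, hi⟩ := Spec.map_surjective x.left
  have h : CommRingCat.ofHom (algebraMap k A) ≫ i = CommRingCat.ofHom (algebraMap k B) := Spec.map_injective (by
    rw [Spec.map_comp, hi]
    exact Over.w x)
  refine ⟨{ i.hom with commutes' := fun r => congrArg (fun t => t.hom r) h }, Over.OverMorphism.ext ?_⟩
  exact hi.symm

omit [GrpObj T] in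
/-- A field-valued point in the intersection of two nonempty open subsets. -/
theorem exists_point (Q : Over (Spec (CommRingCat.of k))) [IrreducibleSpace Q.left] (O O' : Q.left.Opens)
    (hO : (O : Set Q.left).Nonempty) (hO' : (O' : Set Q.left).Nonempty) :
    ∃ (L : Type u) (_ : Field L) (_ : Algebra k L) (M : sp k L ⟶ Q),
      Set.range M.left ⊆ (O : Set Q.left) ∧ Set.range M.left ⊆ (O' : Set Q.left) := by
  obtain ⟨w, hw1, hw2⟩ := nonempty_preirreducible_inter O.2 O'.2 hO hO'
  obtain ⟨i, hi⟩ := Spec.map_surjective (Q.left.fromSpecResidueField w ≫ Q.hom)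
  letI : Algebra k (Q.left.residueField w) := i.hom.toAlgebra
  refine ⟨Q.left.residueField w, inferInstance, inferInstance, Over.homMk (Q.left.fromSpecResidueField w) hi.symm, ?_, ?_⟩
  · rintro _ ⟨x, rfl⟩
    show Q.left.fromSpecResidueField w x ∈ O
    rw [Scheme.fromSpecResidueField_apply w x]
    exact hw1
  · rintro _ ⟨x, rfl⟩
    show Q.left.fromSpecResidueField w x ∈ O'
    rw [Scheme.fromSpecResidueField_apply w x]
    exact hw2

/-- The two translates of a nonempty open set of a torus meet over a field extension. -/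
theorem exists_translate (hT : Red.IsTorus T) (U : T.left.Opens) (hU : (U : Set T.left).Nonempty)
    (u : sp k κ ⟶ T) :
    ∃ (L : Type u) (_ : Field L) (_ : Algebra k L) (jL : κ →ₐ[k] L) (g : sp k L ⟶ T),
      Set.range g.left ⊆ (U : Set T.left) ∧ Set.range (g * (spMap jL ≫ u)).left ⊆ (U : Set T.left) := by
  haveI := isIntegral_bq (κ := κ) hT
  obtain ⟨z, hz⟩ := exists_bF_eq (κ := κ) hU.some
  let O : (bq T κ).left.Opens := (bF T κ).left ⁻¹ᵁ U
  have hzO : z ∈ O := (Scheme.Hom.mem_preimage _).2 (by rw [hz]; exact hU.some_mem)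
  have hO : (O : Set (bq T κ).left).Nonempty := ⟨z, hzO⟩
  have hO' : (((tr u).left ⁻¹ᵁ O : (bq T κ).left.Opens) : Set (bq T κ).left).Nonempty :=
    ⟨(tr u⁻¹).left z, (Scheme.Hom.mem_preimage _).2 (by rw [tr_inv_apply]; exact hzO)⟩
  obtain ⟨L, _, _, M, hM1, hM2⟩ := exists_point (bq T κ) O ((tr u).left ⁻¹ᵁ O) hO hO'
  obtain ⟨jL, hjL⟩ := exists_algHom (M ≫ bS T κ)
  refine ⟨L, inferInstance, inferInstance, jL, M ≫ bF T κ, ?_, ?_⟩
  · rintro _ ⟨x, rfl⟩
    have h := (Scheme.Hom.mem_preimage _).1 (hM1 ⟨x, rfl⟩)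
    rwa [Over.comp_left, Scheme.Hom.comp_apply]
  · rw [← hjL, Category.assoc, ← MonObj.comp_mul, ← tr_bF]
    rintro _ ⟨x, rfl⟩
    have h := (Scheme.Hom.mem_preimage _).1 ((Scheme.Hom.mem_preimage _).1 (hM2 ⟨x, rfl⟩))
    rwa [Over.comp_left, Over.comp_left, Scheme.Hom.comp_apply, Scheme.Hom.comp_apply]

variable (U : T.left.Opens) (n : ℕ) (Y : (Spec (CommRingCat.of (MvPolynomial (Fin n) k))).Opens)
  (a : (U : Scheme.{u}) ⟶ (Y : Scheme.{u})) (b : (Y : Scheme.{u}) ⟶ (U : Scheme.{u}))

/-- A point of the open subset of affine space lifts along a surjection from a local algebra, hence so does a point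
of the retract. -/
theorem exists_lift_open (hab : a ≫ b = 𝟙 (U : Scheme.{u}))
    (ha : a ≫ Y.ι ≫ Spec.map (CommRingCat.ofHom (algebraMap k (MvPolynomial (Fin n) k))) = U.ι ≫ T.hom)
    (hb : b ≫ U.ι ≫ T.hom = Y.ι ≫ Spec.map (CommRingCat.ofHom (algebraMap k (MvPolynomial (Fin n) k))))
    {A E : Type u} [CommRing A] [IsLocalRing A] [Algebra k A] [Field E] [Algebra k E]
    (φ : A →ₐ[k] E) (hφ : Function.Surjective φ) (x : sp k E ⟶ T) (hx : Set.range x.left ⊆ (U : Set T.left)) :
    ∃ s : sp k A ⟶ T, spMap φ ≫ s = x := by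
  let x' : Spec (CommRingCat.of E) ⟶ (U : Scheme.{u}) :=
    IsOpenImmersion.lift U.ι x.left (by rw [Scheme.Opens.range_ι]; exact hx)
  have hx' : x' ≫ U.ι = x.left := IsOpenImmersion.lift_fac _ _ _
  obtain ⟨c, hc⟩ := Spec.map_surjective (x' ≫ a ≫ Y.ι)
  have hck : c.hom.comp (algebraMap k (MvPolynomial (Fin n) k)) = algebraMap k E := by
    have : Spec.map (CommRingCat.ofHom (algebraMap k (MvPolynomial (Fin n) k)) ≫ c) =
        Spec.map (CommRingCat.ofHom (algebraMap k E)) := by
      rw [Spec.map_comp, hc, Category.assoc, Category.assoc, ha, ← Category.assoc, hx']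
      exact Over.w x
    exact congrArg CommRingCat.Hom.hom (Spec.map_injective this)
  choose v hv using fun i => hφ (c.hom (MvPolynomial.X i))
  let cA : MvPolynomial (Fin n) k →ₐ[k] A := MvPolynomial.aeval v
  have hcA : CommRingCat.ofHom cA.toRingHom ≫ CommRingCat.ofHom φ.toRingHom = c := by
    refine CommRingCat.hom_ext (MvPolynomial.ringHom_ext (fun r => ?_) fun i => ?_)
    · show φ (cA (MvPolynomial.C r)) = c.hom (MvPolynomial.C r)
      rw [← MvPolynomial.algebraMap_eq, AlgHom.commutes, AlgHom.commutes, ← hck]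
      rfl
    · show φ (cA (MvPolynomial.X i)) = c.hom (MvPolynomial.X i)
      simp [cA, hv i]
  let g : Spec (CommRingCat.of A) ⟶ Spec (CommRingCat.of (MvPolynomial (Fin n) k)) :=
    Spec.map (CommRingCat.ofHom cA.toRingHom)
  have hg : Spec.map (CommRingCat.ofHom φ.toRingHom) ≫ g = x' ≫ a ≫ Y.ι := by
    rw [← Spec.map_comp, hcA, hc]
  have hgY : Set.range g ⊆ (Y : Set _) := by
    refine range_le_of_closedPoint g Y ?_
    have e : (Spec.map (CommRingCat.ofHom φ.toRingHom)) (IsLocalRing.closedPoint E) = IsLocalRing.closedPoint A := by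
      refine PrimeSpectrum.ext (IsLocalRing.eq_maximalIdeal ?_)
      show (Ideal.comap φ.toRingHom (IsLocalRing.maximalIdeal E)).IsMaximal
      exact Ideal.comap_isMaximal_of_surjective _ hφ
    rw [← e, ← Scheme.Hom.comp_apply, hg]
    rw [Scheme.Hom.comp_apply, Scheme.Hom.comp_apply]
    exact (a (x' _)).2
  let g' : Spec (CommRingCat.of A) ⟶ (Y : Scheme.{u}) := IsOpenImmersion.lift Y.ι g (by rwa [Scheme.Opens.range_ι])
  have hg' : g' ≫ Y.ι = g := IsOpenImmersion.lift_fac _ _ _
  have hgk : (g' ≫ b ≫ U.ι) ≫ T.hom = Spec.map (CommRingCat.ofHom (algebraMap k A)) := by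
    rw [Category.assoc, Category.assoc, hb, ← Category.assoc, hg', ← Spec.map_comp, ← CommRingCat.ofHom_comp]
    congr 2
    exact cA.comp_algebraMap
  refine ⟨Over.homMk (g' ≫ b ≫ U.ι) hgk, Over.OverMorphism.ext ?_⟩
  show Spec.map _ ≫ g' ≫ b ≫ U.ι = x.left
  have : Spec.map (CommRingCat.ofHom φ.toRingHom) ≫ g' = x' ≫ a :=
    (cancel_mono Y.ι).1 (by rw [Category.assoc, hg', hg, Category.assoc])
  rw [reassoc_of% this, reassoc_of% hab, hx']

variable [IsCommMonObj T]

/-- For a large enough field, every point lifts. -/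
theorem exists_bound (hT : Red.IsTorus T) (hne : (U : Set T.left).Nonempty) (hab : a ≫ b = 𝟙 (U : Scheme.{u}))
    (ha : a ≫ Y.ι ≫ Spec.map (CommRingCat.ofHom (algebraMap k (MvPolynomial (Fin n) k))) = U.ι ≫ T.hom)
    (hb : b ≫ U.ι ≫ T.hom = Y.ι ≫ Spec.map (CommRingCat.ofHom (algebraMap k (MvPolynomial (Fin n) k))))
    {κ : Type u} [Field κ] [Algebra k κ] (u : sp k κ ⟶ T) :
    ∃ N : ℕ, ∀ (A E : Type u) [CommRing A] [IsLocalRing A] [Algebra k A] [Field E] [Algebra k E]
      (φ : A →ₐ[k] E) (_ : Function.Surjective φ) (j : κ →ₐ[k] E) (_ : Infinite E ∨ N < Nat.card E),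
      ∃ s : sp k A ⟶ T, spMap φ ≫ s = spMap j ≫ u := by
  obtain ⟨L, _, _, jL, g, hg, hgu⟩ := exists_translate hT U hne u
  let p : Spec (CommRingCat.of (MvPolynomial (Fin n) κ)) ⟶ Spec (CommRingCat.of (MvPolynomial (Fin n) k)) :=
    Spec.map (CommRingCat.ofHom (MvPolynomial.map (algebraMap k κ)))
  let r : Spec (CommRingCat.of (MvPolynomial (Fin n) κ)) ⟶ Spec (CommRingCat.of κ) :=
    Spec.map (CommRingCat.ofHom (algebraMap κ (MvPolynomial (Fin n) κ)))
  let Z := p ⁻¹ᵁ Y
  let ek := Spec.map (CommRingCat.ofHom (algebraMap k (MvPolynomial (Fin n) k)))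
  let Zo : Over (Spec (CommRingCat.of k)) := Over.mk (Z.ι ≫ p ≫ ek)
  let G : Zo ⟶ T := Over.homMk ((p ∣_ Y) ≫ b ≫ U.ι) (by
    show ((p ∣_ Y) ≫ b ≫ U.ι) ≫ T.hom = Z.ι ≫ p ≫ ek
    rw [Category.assoc, Category.assoc, hb, ← Category.assoc, morphismRestrict_ι, Category.assoc])
  let C : Zo ⟶ sp k κ := Over.homMk (Z.ι ≫ r) (by
    show (Z.ι ≫ r) ≫ Spec.map _ = Z.ι ≫ p ≫ ek
    rw [Category.assoc, ← Spec.map_comp, ← Spec.map_comp, ← CommRingCat.ofHom_comp, ← CommRingCat.ofHom_comp]
    congr 3
    ext x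
    simp [MvPolynomial.algebraMap_eq])
  let H : Zo ⟶ T := G * (C ≫ u)
  let V : (Spec (CommRingCat.of (MvPolynomial (Fin n) κ))).Opens := Z.ι ''ᵁ (H.left ⁻¹ᵁ U)
  -- the translated generic point
  let g' : Spec (CommRingCat.of L) ⟶ (U : Scheme.{u}) :=
    IsOpenImmersion.lift U.ι g.left (by rw [Scheme.Opens.range_ι]; exact hg)
  have hg' : g' ≫ U.ι = g.left := IsOpenImmersion.lift_fac _ _ _
  obtain ⟨c, hc⟩ := Spec.map_surjective (g' ≫ a ≫ Y.ι)
  letI : Algebra κ L := jL.toRingHom.toAlgebra
  let d : MvPolynomial (Fin n) κ →ₐ[κ] L := MvPolynomial.aeval fun i => c.hom (MvPolynomial.X i)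
  have hck : c.hom.comp (algebraMap k (MvPolynomial (Fin n) k)) = algebraMap k L := by
    have : Spec.map (CommRingCat.ofHom (algebraMap k (MvPolynomial (Fin n) k)) ≫ c) =
        Spec.map (CommRingCat.ofHom (algebraMap k L)) := by
      rw [Spec.map_comp, hc, Category.assoc, Category.assoc, ha, ← Category.assoc, hg']
      exact Over.w g
    exact congrArg CommRingCat.Hom.hom (Spec.map_injective this)
  let D := Spec.map (CommRingCat.ofHom d.toRingHom)
  have hDp : D ≫ p = g' ≫ a ≫ Y.ι := by
    rw [← hc, ← Spec.map_comp]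
    congr 1
    refine CommRingCat.hom_ext (MvPolynomial.ringHom_ext (fun x => ?_) fun i => ?_)
    · show d (MvPolynomial.map (algebraMap k κ) (MvPolynomial.C x)) = c.hom (MvPolynomial.C x)
      rw [MvPolynomial.map_C, MvPolynomial.aeval_C]
      refine (jL.commutes x).trans ?_
      rw [← hck]
      rfl
    · show d (MvPolynomial.map (algebraMap k κ) (MvPolynomial.X i)) = _
      simp [d]
  have hDr : D ≫ r = Spec.map (CommRingCat.ofHom jL.toRingHom) := by
    rw [← Spec.map_comp, ← CommRingCat.ofHom_comp]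
    congr 2
    ext x
    exact d.commutes x
  have hDZ : Set.range D ⊆ Set.range Z.ι := by
    rw [Scheme.Opens.range_ι]
    rintro _ ⟨x, rfl⟩
    show p (D x) ∈ Y
    rw [← Scheme.Hom.comp_apply, hDp, Scheme.Hom.comp_apply, Scheme.Hom.comp_apply]
    exact (a (g' x)).2
  let D' := IsOpenImmersion.lift Z.ι D hDZ
  have hD' : D' ≫ Z.ι = D := IsOpenImmersion.lift_fac _ _ _
  let Do : sp k L ⟶ Zo := Over.homMk D' (by
    show D' ≫ Z.ι ≫ p ≫ ek = _
    rw [reassoc_of% hD', reassoc_of% hDp, ha, reassoc_of% hg']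
    exact Over.w g)
  have hDG : Do ≫ G = g := by
    refine Over.OverMorphism.ext ?_
    show D' ≫ (p ∣_ Y) ≫ b ≫ U.ι = g.left
    have : D' ≫ (p ∣_ Y) = g' ≫ a :=
      (cancel_mono Y.ι).1 (by rw [Category.assoc, morphismRestrict_ι, reassoc_of% hD', hDp, Category.assoc])
    rw [reassoc_of% this, reassoc_of% hab, hg']
  have hDC : Do ≫ C = spMap jL := Over.OverMorphism.ext (by
    show D' ≫ Z.ι ≫ r = _
    rw [reassoc_of% hD', hDr]
    rfl)
  have hDH : Do ≫ H = g * (spMap jL ≫ u) := by rw [MonObj.comp_mul, ← Category.assoc, hDG, hDC]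
  let pt : Spec (CommRingCat.of L) := IsLocalRing.closedPoint L
  have hV : D pt ∈ V := by
    refine ⟨D' pt, ?_, by rw [← hD']; rfl⟩
    show H.left (D' pt) ∈ U
    have := hgu ⟨pt, rfl⟩
    rw [← hDH] at this
    exact this
  obtain ⟨_, ⟨f, rfl⟩, hfV, hf⟩ :=
    PrimeSpectrum.isTopologicalBasis_basic_opens.exists_subset_of_mem_open hV V.2
  have hf0 : f ≠ 0 := fun h0 => by
    subst h0
    exact hfV (Ideal.zero_mem _)
  refine ⟨f.totalDegree, fun A E _ _ _ _ _ φ hφ j hE => ?_⟩
  letI : Algebra κ E := j.toRingHom.toAlgebra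
  obtain ⟨e, he⟩ := exists_surj_map (E := E) f hf0 hE
  let ev : MvPolynomial (Fin n) κ →ₐ[κ] E := MvPolynomial.aeval e
  let P := Spec.map (CommRingCat.ofHom ev.toRingHom)
  have hPf : ∀ x, P x ∈ (PrimeSpectrum.basicOpen f : Set (PrimeSpectrum (MvPolynomial (Fin n) κ))) := fun x => by
    intro hx
    have : ev f ∈ x.asIdeal := hx
    exact x.isPrime.ne_top (Ideal.eq_top_of_isUnit_mem _ this (isUnit_iff_ne_zero.2 he))
  have hPZ : Set.range P ⊆ Set.range Z.ι := by
    rintro _ ⟨x, rfl⟩
    obtain ⟨z, -, hz⟩ := hf (hPf x)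
    exact ⟨z, hz⟩
  let P' := IsOpenImmersion.lift Z.ι P hPZ
  have hP' : P' ≫ Z.ι = P := IsOpenImmersion.lift_fac _ _ _
  let Po : sp k E ⟶ Zo := Over.homMk P' (by
    show P' ≫ Z.ι ≫ p ≫ ek = _
    rw [reassoc_of% hP', ← Spec.map_comp, ← Spec.map_comp, ← CommRingCat.ofHom_comp, ← CommRingCat.ofHom_comp]
    show Spec.map _ = Spec.map _
    congr 2
    ext x
    show ev (MvPolynomial.map (algebraMap k κ) (MvPolynomial.C x)) = _
    rw [MvPolynomial.map_C, MvPolynomial.aeval_C]
    exact j.commutes x)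
  have hPC : Po ≫ C = spMap j := Over.OverMorphism.ext (by
    show P' ≫ Z.ι ≫ r = _
    rw [reassoc_of% hP', ← Spec.map_comp, ← CommRingCat.ofHom_comp]
    show Spec.map _ = Spec.map _
    congr 2
    ext x
    exact ev.commutes x)
  have h1 : Set.range (Po ≫ G).left ⊆ (U : Set T.left) := by
    rintro _ ⟨x, rfl⟩
    exact (b ((p ∣_ Y) (P' x))).2
  have h2 : Set.range (Po ≫ H).left ⊆ (U : Set T.left) := by
    rintro _ ⟨x, rfl⟩
    obtain ⟨z, hz, hzP⟩ := hf (hPf x)
    have : z = P' x := Z.ι.isOpenEmbedding.injective (hzP.trans (by rw [← hP']; rfl))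
    show H.left (P' x) ∈ U
    rw [← this]
    exact hz
  obtain ⟨s₁, hs₁⟩ := exists_lift_open U n Y a b hab ha hb φ hφ _ h1
  obtain ⟨s₂, hs₂⟩ := exists_lift_open U n Y a b hab ha hb φ hφ _ h2
  refine ⟨s₁⁻¹ * s₂, ?_⟩
  rw [MonObj.comp_mul, GrpObj.comp_inv, hs₁, hs₂, MonObj.comp_mul, ← Category.assoc, hPC, inv_mul_cancel_left]

open Classical in
/-- Points over a local algebra with given reduction. -/
theorem exists_lift_point (hT : Red.IsTorus T) (hne : (U : Set T.left).Nonempty) (hab : a ≫ b = 𝟙 (U : Scheme.{u}))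
    (ha : a ≫ Y.ι ≫ Spec.map (CommRingCat.ofHom (algebraMap k (MvPolynomial (Fin n) k))) = U.ι ≫ T.hom)
    (hb : b ≫ U.ι ≫ T.hom = Y.ι ≫ Spec.map (CommRingCat.ofHom (algebraMap k (MvPolynomial (Fin n) k))))
    {A κ : Type u} [CommRing A] [IsLocalRing A] [Algebra k A] [Field κ] [Algebra k κ]
    (π : A →ₐ[k] κ) (hπ : Function.Surjective π) (u : sp k κ ⟶ T) :
    ∃ s : sp k A ⟶ T, spMap π ≫ s = u := by
  haveI := Chev.isAffine_of_isTorus hT
  obtain ⟨N, hN⟩ := exists_bound U n Y a b hT hne hab ha hb u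
  rcases finite_or_infinite κ with hκ | hκ
  swap
  · obtain ⟨s, hs⟩ := hN A κ π hπ (AlgHom.id k κ) (Or.inl hκ)
    refine ⟨s, hs.trans ?_⟩
    have : spMap (AlgHom.id k κ) = 𝟙 (sp k κ) := Over.OverMorphism.ext (Spec.map_id _)
    rw [this, Category.id_comp]
  haveI : Finite k := Finite.of_injective _ (algebraMap k κ).injective
  obtain ⟨p, hp⟩ := CharP.exists k
  haveI : Fact p.Prime := ⟨CharP.char_is_prime k p⟩
  let R : Subgroup (sp k κ ⟶ T) :=
    { carrier := {v | ∃ s : sp k A ⟶ T, spMap π ≫ s = v}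
      mul_mem' := fun ⟨s, hs⟩ ⟨t, ht⟩ => ⟨s * t, by rw [MonObj.comp_mul, hs, ht]⟩
      one_mem' := ⟨1, MonObj.comp_one _⟩
      inv_mem' := fun ⟨s, hs⟩ => ⟨s⁻¹, by rw [GrpObj.comp_inv, hs]⟩ }
  have key : ∀ ℓ : ℕ, ℓ.Prime → N < ℓ → Module.finrank k κ < ℓ → u ^ ℓ ∈ R := by
    intro ℓ hℓ hNℓ hdℓ
    haveI : NeZero ℓ := ⟨hℓ.ne_zero⟩
    let K := FiniteField.Extension k p ℓ
    haveI : IsGalois k K := inferInstance
    letI : Fintype (K ≃ₐ[k] K) := Fintype.ofFinite _
    let A' := A ⊗[k] K
    -- a residue field of degree `ℓ`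
    obtain ⟨M, hM⟩ := Ideal.exists_maximal (κ ⊗[k] K)
    letI := Ideal.Quotient.field M
    let E := (κ ⊗[k] K) ⧸ M
    let q : (κ ⊗[k] K) →ₐ[κ] E := Ideal.Quotient.mkₐ κ M
    have hq : Function.Surjective q := Ideal.Quotient.mkₐ_surjective κ M
    have hdim : Module.finrank κ (κ ⊗[k] K) = ℓ := by
      rw [Module.finrank_baseChange]
      exact FiniteField.finrank_extension k p ℓ
    have hdvd : ℓ ∣ Module.finrank κ E := by
      let g : K →ₐ[k] E := (q.restrictScalars k).comp Algebra.TensorProduct.includeRight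
      letI : Algebra K E := g.toRingHom.toAlgebra
      haveI : IsScalarTower k K E := IsScalarTower.of_algebraMap_eq fun x => (g.commutes x).symm
      have h1 := Module.finrank_mul_finrank k K E
      have h2 := Module.finrank_mul_finrank k κ E
      rw [FiniteField.finrank_extension k p ℓ] at h1
      have : ℓ ∣ Module.finrank k κ * Module.finrank κ E := ⟨_, h2.trans h1.symm⟩
      refine (hℓ.coprime_iff_not_dvd.2 fun hd => ?_).dvd_of_dvd_mul_left this
      have : 0 < Module.finrank k κ := Module.finrank_pos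
      exact absurd (Nat.le_of_dvd this hd) (not_le.2 hdℓ)
    have hqinj : Function.Injective q := by
      have hle : Module.finrank κ E ≤ ℓ := le_of_le_of_eq (LinearMap.finrank_le_finrank_of_surjective (f := q.toLinearMap) hq) hdim
      have hpos : 0 < Module.finrank κ E := Module.finrank_pos
      have heq : Module.finrank κ E = ℓ := le_antisymm hle (Nat.le_of_dvd hpos hdvd)
      exact (LinearMap.injective_iff_surjective_of_finrank_eq_finrank (f := q.toLinearMap) (hdim.trans heq.symm)).2 hq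
    let φ : A' →ₐ[k] E := (q.restrictScalars k).comp (Algebra.TensorProduct.map π (AlgHom.id k K))
    have hmap : Function.Surjective (Algebra.TensorProduct.map π (AlgHom.id k K)) :=
      TensorProduct.map_surjective hπ Function.surjective_id
    have hφ : Function.Surjective φ := hq.comp hmap
    haveI : IsLocalRing A' := by
      refine IsLocalRing.of_unique_max_ideal ⟨RingHom.ker φ, RingHom.ker_isMaximal_of_surjective _ hφ, fun I hI => ?_⟩
      haveI : Algebra.IsIntegral A A' := inferInstance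
      have hc : (I.comap (algebraMap A A')) = IsLocalRing.maximalIdeal A :=
        IsLocalRing.eq_maximalIdeal (Ideal.isMaximal_comap_of_isIntegral_of_isMaximal I)
      haveI := RingHom.ker_isMaximal_of_surjective φ hφ
      refine ((inferInstance : (RingHom.ker φ).IsMaximal).eq_of_le hI.ne_top fun x hx => ?_).symm
      have hx' : Algebra.TensorProduct.map π (AlgHom.id k K) x = 0 := hqinj (by rw [map_zero]; exact hx)
      have hker : RingHom.ker (Algebra.TensorProduct.map π (AlgHom.id k K)) =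
          (RingHom.ker π).map (Algebra.TensorProduct.includeLeft : A →ₐ[k] A') :=
        Algebra.TensorProduct.rTensor_ker π hπ
      have : x ∈ Ideal.map (Algebra.TensorProduct.includeLeft : A →ₐ[k] A') (RingHom.ker π) := by
        rw [← hker]; exact hx'
      refine Ideal.map_le_iff_le_comap.2 ?_ this
      intro y hy
      show algebraMap A A' y ∈ I
      have : y ∈ IsLocalRing.maximalIdeal A := by
        rw [← IsLocalRing.eq_maximalIdeal (RingHom.ker_isMaximal_of_surjective π hπ)]
        exact hy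
      rw [← hc] at this
      exact this
    let jκ : κ →ₐ[k] E := (q.restrictScalars k).comp Algebra.TensorProduct.includeLeft
    have hE : N < Nat.card E := by
      haveI : Finite E := Module.finite_of_finite κ
      have h1 : Nat.card K ≤ Nat.card E := by
        refine Nat.card_le_card_of_injective ((q.restrictScalars k).comp Algebra.TensorProduct.includeRight) ?_
        exact ((q.restrictScalars k).comp (Algebra.TensorProduct.includeRight : K →ₐ[k] _)).toRingHom.injective
      rw [FiniteField.natCard_extension] at h1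
      have h2 : ℓ < Nat.card k ^ ℓ := Nat.lt_pow_self Finite.one_lt_card
      omega
    obtain ⟨s', hs'⟩ := hN A' E φ hφ jκ (Or.inr hE)
    let σA : (K ≃ₐ[k] K) → (A' →ₐ[k] A') := fun σ => Algebra.TensorProduct.map (AlgHom.id k A) σ.toAlgHom
    let nm : sp k A' ⟶ T := ∏ σ : K ≃ₐ[k] K, spMap (σA σ) ≫ s'
    have hinv : ∀ τ, spMap (σA τ) ≫ nm = nm := by
      intro τ
      let comp : (sp k A' ⟶ T) →* (sp k A' ⟶ T) :=
        { toFun := fun x => spMap (σA τ) ≫ x
          map_one' := MonObj.comp_one _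
          map_mul' := MonObj.comp_mul _ }
      show comp nm = nm
      rw [map_prod]
      refine Fintype.prod_equiv (Equiv.mulLeft τ) _ _ fun σ => ?_
      show spMap (σA τ) ≫ spMap (σA σ) ≫ s' = spMap (σA (τ * σ)) ≫ s'
      rw [← Category.assoc, spMap_comp]
      congr 2
      ext x <;> rfl
    obtain ⟨s, hs⟩ := exists_desc (Algebra.TensorProduct.includeLeft : A →ₐ[k] A')
      (Algebra.TensorProduct.includeLeft_injective (algebraMap k K).injective) (Set.range σA) (by
        intro x hx
        let B := Module.Free.chooseBasis k A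
        let e := TensorProduct.equivFinsuppOfBasisLeft (N := K) B
        have hfix : ∀ i, ∀ σ : K ≃ₐ[k] K, σ (e x i) = e x i := by
          intro i σ
          have h1 : ∀ y : A', e (σA σ y) i = σ (e y i) := by
            intro y
            induction y using TensorProduct.induction_on with
            | zero => simp
            | tmul a c =>
              show (TensorProduct.equivFinsuppOfBasisLeft B) (a ⊗ₜ[k] σ c) i =
                σ ((TensorProduct.equivFinsuppOfBasisLeft B) (a ⊗ₜ[k] c) i)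
              simp [map_smul]
            | add y z hy hz => simp [map_add, hy, hz]
          rw [← h1, hx _ ⟨σ, rfl⟩]
        have hbot : ∀ i, ∃ r : k, algebraMap k K r = e x i := fun i => by
          have := (IsGalois.mem_bot_iff_fixed (F := k) (e x i)).2 (hfix i)
          exact IntermediateField.mem_bot.1 this
        choose r hr using hbot
        have hx2 : x = (e x).sum fun i c => B i ⊗ₜ[k] c := by
          conv_lhs => rw [← e.symm_apply_apply x]
          exact TensorProduct.equivFinsuppOfBasisLeft_symm_apply _ _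
        rw [hx2]
        refine Subalgebra.sum_mem _ fun i _ => ?_
        refine ⟨r i • B i, ?_⟩
        show (r i • B i) ⊗ₜ[k] (1 : K) = B i ⊗ₜ[k] e x i
        rw [← hr i, Algebra.algebraMap_eq_smul_one, TensorProduct.tmul_smul, TensorProduct.smul_tmul'])
      nm (by rintro _ ⟨τ, rfl⟩; exact hinv τ)
    refine ⟨s, cancel_spMap jκ jκ.toRingHom.injective ?_⟩
    have h3 : spMap jκ ≫ spMap π = spMap φ ≫ spMap (Algebra.TensorProduct.includeLeft : A →ₐ[k] A') := by
      rw [spMap_comp, spMap_comp]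
      congr 1
    rw [reassoc_of% h3, hs]
    have hterm : ∀ σ : K ≃ₐ[k] K, spMap φ ≫ spMap (σA σ) ≫ s' = spMap jκ ≫ u := by
      intro σ
      let σκ : (κ ⊗[k] K) →ₐ[k] (κ ⊗[k] K) := Algebra.TensorProduct.map (AlgHom.id k κ) σ.toAlgHom
      let e := AlgEquiv.ofBijective (q.restrictScalars k) ⟨hqinj, hq⟩
      let σE : E →ₐ[k] E := (e.toAlgHom.comp σκ).comp e.symm.toAlgHom
      have hes : ∀ y, e.symm (q y) = y := fun y => e.symm_apply_apply y
      have h4 : φ.comp (σA σ) = σE.comp φ := by
        refine AlgHom.ext fun x => ?_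
        show q (Algebra.TensorProduct.map π (AlgHom.id k K) (σA σ x)) =
          q (σκ (e.symm (q (Algebra.TensorProduct.map π (AlgHom.id k K) x))))
        rw [hes]
        congr 1
        induction x using TensorProduct.induction_on with
        | zero => simp
        | tmul a c => rfl
        | add y z hy hz => simp [map_add, hy, hz]
      have h5 : σE.comp jκ = jκ := by
        ext x
        have : e.symm (jκ x) = x ⊗ₜ[k] (1 : K) := by
          rw [AlgEquiv.symm_apply_eq]; rfl
        show e (σκ (e.symm (jκ x))) = jκ x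
        rw [this]
        simp [σκ, e, jκ]
      rw [← Category.assoc, spMap_comp, h4, ← spMap_comp, Category.assoc, hs', ← Category.assoc, spMap_comp, h5]
    let compφ : (sp k A' ⟶ T) →* (sp k E ⟶ T) :=
      { toFun := fun x => spMap φ ≫ x
        map_one' := MonObj.comp_one _
        map_mul' := MonObj.comp_mul _ }
    show compφ nm = spMap jκ ≫ (u ^ ℓ)
    rw [map_prod]
    refine (Finset.prod_congr rfl fun σ _ => hterm σ).trans ?_
    rw [Finset.prod_const, Finset.card_univ, Fintype.card_eq_nat_card, FiniteField.natCard_algEquiv_extension,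
      MonObj.comp_pow]
  obtain ⟨l₁, h₁, hl₁⟩ := Nat.exists_infinite_primes (max (N + 1) (Module.finrank k κ + 1))
  obtain ⟨l₂, h₂, hl₂⟩ := Nat.exists_infinite_primes (l₁ + 1)
  have k1 := key l₁ hl₁ (by omega) (by omega)
  have k2 := key l₂ hl₂ (by omega) (by omega)
  have hco : Nat.Coprime l₁ l₂ := (Nat.coprime_primes hl₁ hl₂).2 (by omega)
  obtain ⟨x, y, hxy⟩ := hco.isCoprime
  have : u = (u ^ l₁) ^ x * (u ^ l₂) ^ y := by
    rw [← zpow_natCast u l₁, ← zpow_natCast u l₂, ← zpow_mul, ← zpow_mul, ← zpow_add,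
      show (l₁ : ℤ) * x + l₂ * y = 1 by linarith, zpow_one]
  show u ∈ R
  rw [this]
  exact R.mul_mem (R.zpow_mem k1 x) (R.zpow_mem k2 y)

end Retract

end Groth.Agent.RetRat
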