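import Groth.Agent.RetRat.Core
import Groth.Agent.Chev.TorusBasic
import Groth.Agent.SmoothRed.Scheme

/-!
# Tori with lifting over discrete valuation rings are retract rational
-/

set_option autoImplicit false
set_option linter.style.haveILetI false
universe u

open CategoryTheory Limits AlgebraicGeometry MonObj GrpObj

noncomputable section

namespace Groth.Agent.RetRat

/-- A torus over a field is integral. -/
theorem isIntegral_of_isTorus {k : Type u} [Field k] {T : Over (Spec (CommRingCat.of k))} [GrpObj T]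
    (hT : Red.IsTorus T) : IsIntegral T.left := by
  haveI := Chev.smooth_of_isTorus hT
  haveI := Chev.locallyOfFiniteType_of_isTorus hT
  obtain ⟨L, _, _, w, r, hs⟩ := Chev.exists_split_of_isTorus hT
  obtain ⟨e⟩ := hs
  haveI : IsIso e.hom.hom.hom.left :=
    inferInstanceAs (IsIso ((Over.forget _).map ((Grp.forget _).map e.hom)))
  haveI := RedR1.isIntegral_DS L r
  haveI : Nonempty (Red.bc w T).left := ⟨(inv e.hom.hom.hom.left) (Classical.arbitrary _)⟩
  haveI : IsIntegral (Red.bc w T).left := isIntegral_of_isOpenImmersion e.hom.hom.hom.left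
  haveI : Surjective w := ⟨fun _ => ⟨IsLocalRing.closedPoint _, Subsingleton.elim (α := PrimeSpectrum k) _ _⟩⟩
  haveI : Surjective (pullback.fst T.hom w) := MorphismProperty.pullback_fst _ _ ‹_›
  haveI : IrreducibleSpace (pullback T.hom w :) := inferInstanceAs (IrreducibleSpace (Red.bc w T).left)
  haveI : IrreducibleSpace T.left := (pullback.fst T.hom w).surjective.irreducibleSpace
    (pullback.fst T.hom w).continuous
  haveI : IsReduced T.left := SmoothRed.isReduced_of_smooth_scheme T.hom
  exact isIntegral_of_irreducibleSpace_of_isReduced T.left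

/-- Retract rationality of an affine smooth integral scheme with lifting over DVRs, affine form. -/
theorem exists_retract_spec (k : Type u) [Field k] (R : CommRingCat.{u}) [IsDomain R]
    (q : CommRingCat.of k ⟶ R) (hq : q.hom.Smooth)
    (h : ∀ (A : Type u) [CommRing A] [IsDomain A] [IsDiscreteValuationRing A] [Algebra k A]
      (u : Spec (CommRingCat.of (IsLocalRing.ResidueField A)) ⟶ Spec R),
      u ≫ Spec.map q = Spec.map (CommRingCat.ofHom ((IsLocalRing.residue A).comp (algebraMap k A))) →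
      ∃ s : Spec (CommRingCat.of A) ⟶ Spec R, s ≫ Spec.map q = Spec.map (CommRingCat.ofHom (algebraMap k A)) ∧
        Spec.map (CommRingCat.ofHom (IsLocalRing.residue A)) ≫ s = u) :
    ∃ (U : (Spec R).Opens) (n : ℕ) (Y : (Spec (CommRingCat.of (MvPolynomial (Fin n) k))).Opens)
        (a : (U : Scheme.{u}) ⟶ (Y : Scheme.{u})) (b : (Y : Scheme.{u}) ⟶ (U : Scheme.{u})),
        (U : Set (Spec R)).Nonempty ∧ a ≫ b = 𝟙 (U : Scheme.{u}) ∧
        a ≫ Y.ι ≫ Spec.map (CommRingCat.ofHom (algebraMap k (MvPolynomial (Fin n) k))) = U.ι ≫ Spec.map q ∧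
        b ≫ U.ι ≫ Spec.map q = Y.ι ≫ Spec.map (CommRingCat.ofHom (algebraMap k (MvPolynomial (Fin n) k))) := by
  algebraize [q.hom]
  obtain ⟨g, n, f, a, b, hg, hab, hak, hbk⟩ := exists_retract k R (by
    intro A _ _ _ _ v hv
    obtain ⟨s, hs1, hs2⟩ := h A (Spec.map (CommRingCat.ofHom v)) (by
      rw [← Spec.map_comp]
      congr 1
      exact CommRingCat.hom_ext hv)
    refine ⟨(Spec.preimage s).hom, ?_, ?_⟩
    · have : Spec.map (q ≫ Spec.preimage s) = Spec.map (CommRingCat.ofHom (algebraMap k A)) := by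
        rw [Spec.map_comp, Spec.map_preimage, hs1]
      exact congrArg CommRingCat.Hom.hom (Spec.map_injective this)
    · have : Spec.map (Spec.preimage s ≫ CommRingCat.ofHom (IsLocalRing.residue A)) = Spec.map (CommRingCat.ofHom v) := by
        rw [Spec.map_comp, Spec.map_preimage, hs2]
      exact congrArg CommRingCat.Hom.hom (Spec.map_injective this))
  let eU : Spec (CommRingCat.of (Localization.Away g)) ⟶ Spec R :=
    Spec.map (CommRingCat.ofHom (algebraMap R (Localization.Away g)))
  let eY : Spec (CommRingCat.of (Localization.Away f)) ⟶ Spec (CommRingCat.of (MvPolynomial (Fin n) k)) :=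
    Spec.map (CommRingCat.ofHom (algebraMap (MvPolynomial (Fin n) k) (Localization.Away f)))
  haveI : IsOpenImmersion eU := IsOpenImmersion.of_isLocalization g
  haveI : IsOpenImmersion eY := IsOpenImmersion.of_isLocalization f
  refine ⟨eU.opensRange, n, eY.opensRange,
    eU.isoOpensRange.inv ≫ Spec.map (CommRingCat.ofHom a) ≫ eY.isoOpensRange.hom,
    eY.isoOpensRange.inv ≫ Spec.map (CommRingCat.ofHom b) ≫ eU.isoOpensRange.hom, ?_, ?_, ?_, ?_⟩
  · haveI : Nontrivial (Localization.Away g) :=
      (IsLocalization.isDomain_localization (powers_le_nonZeroDivisors_of_noZeroDivisors hg)).toNontrivial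
    obtain ⟨z⟩ := (inferInstance : Nonempty (PrimeSpectrum (Localization.Away g)))
    exact ⟨eU z, z, rfl⟩
  · simp only [Category.assoc, Iso.hom_inv_id_assoc]
    rw [← Spec.map_comp_assoc, ← CommRingCat.ofHom_comp, hab, CommRingCat.ofHom_id, Spec.map_id,
      Category.id_comp, Iso.inv_hom_id]
  · simp only [Category.assoc, Scheme.Hom.isoOpensRange_hom_ι_assoc]
    rw [← Spec.map_comp, ← Spec.map_comp, ← Scheme.Hom.isoOpensRange_inv_comp eU]
    simp only [Category.assoc, eU, ← Spec.map_comp]
    congr 2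
    refine CommRingCat.hom_ext ?_
    show a.comp ((algebraMap _ (Localization.Away f)).comp (algebraMap k _)) = _
    rw [← IsScalarTower.algebraMap_eq, hak, IsScalarTower.algebraMap_eq k R]
    rfl
  · simp only [Category.assoc, Scheme.Hom.isoOpensRange_hom_ι_assoc]
    rw [← Spec.map_comp, ← Spec.map_comp, ← Scheme.Hom.isoOpensRange_inv_comp eY]
    simp only [Category.assoc, eY, ← Spec.map_comp]
    congr 2
    refine CommRingCat.hom_ext ?_
    show b.comp ((algebraMap R (Localization.Away g)).comp q.hom) = _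
    rw [← RingHom.algebraMap_toAlgebra q.hom, ← IsScalarTower.algebraMap_eq k R, hbk,
      IsScalarTower.algebraMap_eq k (MvPolynomial (Fin n) k)]
    rfl

/-- Tori: lifting over DVRs gives retract rationality. -/
theorem exists_retract_of_isTorus {k : Type u} [Field k] (T : Over (Spec (CommRingCat.of k))) [GrpObj T]
    (hT : Red.IsTorus T)
    (h : ∀ (A : Type u) [CommRing A] [IsDomain A] [IsDiscreteValuationRing A] [Algebra k A]
        (u : Spec (CommRingCat.of (IsLocalRing.ResidueField A)) ⟶ T.left),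
        u ≫ T.hom = Spec.map (CommRingCat.ofHom ((IsLocalRing.residue A).comp (algebraMap k A))) →
        ∃ s : Spec (CommRingCat.of A) ⟶ T.left, s ≫ T.hom = Spec.map (CommRingCat.ofHom (algebraMap k A)) ∧
          Spec.map (CommRingCat.ofHom (IsLocalRing.residue A)) ≫ s = u) :
    ∃ (U : T.left.Opens) (n : ℕ) (Y : (Spec (CommRingCat.of (MvPolynomial (Fin n) k))).Opens)
        (a : (U : Scheme.{u}) ⟶ (Y : Scheme.{u})) (b : (Y : Scheme.{u}) ⟶ (U : Scheme.{u})),
        (U : Set T.left).Nonempty ∧ a ≫ b = 𝟙 (U : Scheme.{u}) ∧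
        a ≫ Y.ι ≫ Spec.map (CommRingCat.ofHom (algebraMap k (MvPolynomial (Fin n) k))) = U.ι ≫ T.hom ∧
        b ≫ U.ι ≫ T.hom = Y.ι ≫ Spec.map (CommRingCat.ofHom (algebraMap k (MvPolynomial (Fin n) k))) := by
  haveI := Chev.isAffine_of_isTorus hT
  haveI := Chev.smooth_of_isTorus hT
  haveI := isIntegral_of_isTorus hT
  haveI : IsDomain Γ(T.left, ⊤) := inferInstance
  let φ := T.left.isoSpec
  let q : CommRingCat.of k ⟶ Γ(T.left, ⊤) := Spec.preimage (φ.inv ≫ T.hom)
  have hq : φ.inv ≫ T.hom = Spec.map q := (Spec.map_preimage _).symm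
  have hqs : q.hom.Smooth := (HasRingHomProperty.Spec_iff (P := @Smooth)).1 (hq ▸ inferInstance)
  have hTh : φ.hom ≫ Spec.map q = T.hom := by rw [← hq, Iso.hom_inv_id_assoc]
  obtain ⟨U, n, Y, a, b, hU, hab, ha, hb⟩ := exists_retract_spec k Γ(T.left, ⊤) q hqs (by
    intro A _ _ _ _ u hu
    obtain ⟨s, hs1, hs2⟩ := h A (u ≫ φ.inv) (by rw [Category.assoc, hq, hu])
    exact ⟨s ≫ φ.hom, by rw [Category.assoc, hTh, hs1], by
      rw [← Category.assoc, hs2, Category.assoc, Iso.inv_hom_id, Category.comp_id]⟩)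
  let j : (U : Scheme.{u}) ⟶ T.left := U.ι ≫ φ.inv
  refine ⟨j.opensRange, n, Y, j.isoOpensRange.inv ≫ a, b ≫ j.isoOpensRange.hom, ?_, ?_, ?_, ?_⟩
  · obtain ⟨z, hz⟩ := hU
    exact ⟨j ⟨z, hz⟩, ⟨⟨z, hz⟩, rfl⟩⟩
  · rw [Category.assoc, reassoc_of% hab, Iso.inv_hom_id]
  · rw [Category.assoc, ha, ← Scheme.Hom.isoOpensRange_inv_comp j, Category.assoc, Category.assoc, hq]
  · rw [Category.assoc, Scheme.Hom.isoOpensRange_hom_ι_assoc, Category.assoc, hq, hb]

end Groth.Agent.RetRat
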